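import Groth.Agent.Fdesc.SubDer
import Groth.Agent.Fdesc.SubDerMain
import Groth.Agent.S1050

/-!
# Derived categories of nested full abelian subcategories

For `P ≤ Q` two full abelian subcategories of an abelian category, with `P` a Serre class of `Q` to
which epimorphisms can be lifted, `D⁻(P)` is the full subcategory of `D⁻(Q)` of the objects with
cohomology in `P`.
-/

set_option autoImplicit false

universe w w₁ w₂ w₃ v u

open CategoryTheory Category Limits

namespace K226.SubMinus

open Groth.Agent Groth.Agent.PerfA.ExactD Groth.Agent.Fdesc Groth.Agent.Fdesc.SubDer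

variable {A : Type u} [Category.{v} A] [Abelian A]
  (P Q : ObjectProperty A) (hPQ : ∀ M : P.FullSubcategory, Q M.obj)
  [P.ContainsZero] [P.IsClosedUnderKernels] [P.IsClosedUnderCokernels]
  [P.IsClosedUnderFiniteProducts] [HasDerivedCategory.{w₁} P.FullSubcategory]
  [Q.ContainsZero] [Q.IsClosedUnderKernels] [Q.IsClosedUnderCokernels]
  [Q.IsClosedUnderFiniteProducts] [HasDerivedCategory.{w₂} Q.FullSubcategory]
  [(Q.lift P.ι hPQ).Additive]
  [PreservesFiniteLimits (Q.lift P.ι hPQ)] [PreservesFiniteColimits (Q.lift P.ι hPQ)]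

/-- If `P` is a Serre class of the full abelian subcategory `Q` to which epimorphisms onto objects of
`P` can be lifted, then `D⁻(P) ⥤ D⁻(Q)` is fully faithful, with essential image described by the
cohomology. -/
theorem main (hs : (sub P Q).IsSerreClass)
    (hlift : ∀ (X Y : A) (π : X ⟶ Y), Epi π → Q X → P Y →
      ∃ (X' : A) (i : X' ⟶ X), Mono i ∧ P X' ∧ Epi (i ≫ π)) :
    (∀ (M N : DerivedCategory P.FullSubcategory) (b : ℤ), M.IsLE b → N.IsLE b →
      Function.Bijective (fun φ : M ⟶ N => (Q.lift P.ι hPQ).mapDerivedCategory.map φ)) ∧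
    ∀ (K : DerivedCategory Q.FullSubcategory) (b : ℤ), K.IsLE b →
      (∀ n : ℤ, P ((DerivedCategory.homologyFunctor Q.FullSubcategory n).obj K).obj) →
      ∃ M : DerivedCategory P.FullSubcategory, M.IsLE b ∧
        Nonempty ((Q.lift P.ι hPQ).mapDerivedCategory.obj M ≅ K) := by
  have hPQ' : P ≤ Q := fun M hM => hPQ ⟨M, hM⟩
  have hfp : (sub P Q).IsClosedUnderFiniteProducts := isClosedUnderFiniteProducts _
  let _ : HasDerivedCategory.{max u v} (sub P Q).FullSubcategory := HasDerivedCategory.standard _
  have hQk := Q.preservesKernels_ι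
  have hQ1 : PreservesFiniteLimits Q.ι := Functor.preservesFiniteLimits_of_preservesKernels _
  have hQc := Q.preservesCokernels_ι
  have hQ2 : PreservesFiniteColimits Q.ι :=
    Functor.preservesFiniteColimits_of_preservesCokernels _
  have hk := (sub P Q).preservesKernels_ι
  have h1 : PreservesFiniteLimits (sub P Q).ι := Functor.preservesFiniteLimits_of_preservesKernels _
  have hc := (sub P Q).preservesCokernels_ι
  have h2 : PreservesFiniteColimits (sub P Q).ι :=
    Functor.preservesFiniteColimits_of_preservesCokernels _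
  have hlift' : ∀ (X Y : Q.FullSubcategory) (π : X ⟶ Y), Epi π → sub P Q Y →
      ∃ (X' : Q.FullSubcategory) (i : X' ⟶ X), Mono i ∧ sub P Q X' ∧ Epi (i ≫ π) := by
    intro X Y π hπ hY
    have h3 : Epi (Q.ι.map π) := inferInstance
    obtain ⟨X', i, hi, hX', he⟩ := hlift X.obj Y.obj (Q.ι.map π) h3 X.property hY
    refine ⟨⟨X', hPQ' _ hX'⟩, Q.homMk i, ?_, hX', ?_⟩
    · exact Q.ι.mono_of_mono_map (by exact hi)
    · exact Q.ι.epi_of_epi_map (by exact he)
  obtain ⟨h3, h4⟩ := S1050.result (sub P Q) hlift'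
  let E := toSub P Q hPQ'
  have hE := isEquivalence_mapDerivedCategory E
  let e : E.mapDerivedCategory ⋙ (sub P Q).ι.mapDerivedCategory ≅
      (Q.lift P.ι hPQ).mapDerivedCategory :=
    mapDComp (H := Q.lift P.ι hPQ) (Iso.refl _)
  refine ⟨fun M N b hM hN => ?_, fun K b hK hKP => ?_⟩
  · have hM' := isLE_map E M b
    have hN' := isLE_map E N b
    have h5 : Function.Bijective (fun φ : M ⟶ N =>
        (E.mapDerivedCategory ⋙ (sub P Q).ι.mapDerivedCategory).map φ) := by
      have h6 : Function.Bijective (fun φ : M ⟶ N => E.mapDerivedCategory.map φ) :=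
        ⟨E.mapDerivedCategory.map_injective, E.mapDerivedCategory.map_surjective⟩
      have h7 := h3 _ _ b hM' hN'
      exact (h7.comp h6)
    have h9 : (fun φ : M ⟶ N => (Q.lift P.ι hPQ).mapDerivedCategory.map φ) =
        (fun ψ => e.inv.app M ≫ ψ ≫ e.hom.app N) ∘ (fun φ : M ⟶ N =>
          (E.mapDerivedCategory ⋙ (sub P Q).ι.mapDerivedCategory).map φ) := by
      funext φ
      simp only [Function.comp_apply]
      rw [e.hom.naturality φ, Iso.inv_hom_id_app_assoc]
    rw [h9]
    refine Function.Bijective.comp ?_ h5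
    constructor
    · intro a a' h
      simpa using h
    · intro a
      exact ⟨e.hom.app M ≫ a ≫ e.inv.app N, by simp⟩
  · obtain ⟨M, hM, ⟨eM⟩⟩ := h4 K b hK hKP
    refine ⟨E.mapDerivedCategory.objPreimage M, ?_, ⟨?_⟩⟩
    · refine isLE_of_map E (isZero_of_isZero_obj E) _ b ?_
      rw [DerivedCategory.isLE_iff] at hM ⊢
      intro i hi
      exact (hM i hi).of_iso ((DerivedCategory.homologyFunctor _ i).mapIso
        (E.mapDerivedCategory.objObjPreimageIso M))
    · exact (e.app _).symm ≪≫ (sub P Q).ι.mapDerivedCategory.mapIso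
        (E.mapDerivedCategory.objObjPreimageIso M) ≪≫ eM

end K226.SubMinus
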